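import Mathlib
import Groth.Prelude.Def_HopfRep
import Groth.Agent.Lib.Helper9.Comod
import Groth.Agent.Lib.Helper9.ComodIntegral
import Groth.Agent.Lib.Helper9.HopfAntipode

/-!
# Linear reductivity via integrals; quotients (helper9)
-/

set_option autoImplicit false
set_option linter.style.haveILetI false

universe u v w

open TensorProduct

namespace Groth.Agent.H9.LR

open Groth.Agent.H9.Integral Groth.Agent.H9.Comod

section Iff

variable {k : Type u} [Field k] {A : Type v} [CommRing A] [HopfAlgebra k A]

/-- linear reductivity is the existence of a normalised integral -/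
theorem isLinearlyReductive_iff_exists_integral :
    HopfRep.IsLinearlyReductive k A ↔ ∃ α : A →ₗ[k] k, IsIntegral α ∧ α 1 = 1 := by
  constructor
  · intro hG
    have hA : HopfRep.IsSemisimpleComod k A A :=
      isSemisimpleComod_of_fd_semisimple (fun X _ _ _ hX => hG X hX)
    exact exists_integral hA
  · rintro ⟨α, hα, h1⟩ V _ _ _ _
    exact isSemisimpleComod_of_integral hα h1

end Iff

section Op

variable {k : Type u} [CommRing k] {A : Type v} [CommRing A] [HopfAlgebra k A]

/-- `a ↦ Σ β(a₁) a₂` -/
noncomputable def Lop (β : A →ₗ[k] k) : A →ₗ[k] A :=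
  (TensorProduct.lid k A).toLinearMap ∘ₗ LinearMap.rTensor A β ∘ₗ
    CoalgebraStruct.comul (R := k) (A := A)

lemma Lop_apply (β : A →ₗ[k] k) (a : A) :
    Lop β a = TensorProduct.lid k A (LinearMap.rTensor A β (CoalgebraStruct.comul (R := k) a)) :=
  rfl

lemma Lop_repr (β : A →ₗ[k] k) {ι : Type*} (a : A) (r : Coalgebra.Repr k a ι) :
    Lop β a = ∑ i ∈ r.index, β (r.left i) • r.right i := by
  rw [Lop_apply, ← r.eq, map_sum, map_sum]
  refine Finset.sum_congr rfl fun i _ => ?_
  rw [LinearMap.rTensor_tmul, TensorProduct.lid_tmul]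

lemma isIntegral_iff (β : A →ₗ[k] k) :
    IsIntegral β ↔ ∀ a, Lop β a = β a • (1 : A) := Iff.rfl

/-- `Δ ∘ L_β = (L_β ⊗ id) ∘ Δ` -/
lemma comul_Lop (β : A →ₗ[k] k) (a : A) :
    CoalgebraStruct.comul (R := k) (Lop β a) =
      LinearMap.rTensor A (Lop β) (CoalgebraStruct.comul (R := k) a) := by
  have hco := LinearMap.congr_fun (Coalgebra.coassoc (R := k) (A := A)) a
  simp only [LinearMap.comp_apply, LinearEquiv.coe_coe] at hco
  -- apply `β ⊗ id ⊗ id`
  have h1 : ∀ t : A ⊗[k] A, CoalgebraStruct.comul (R := k)
      (TensorProduct.lid k A (LinearMap.rTensor A β t)) =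
      TensorProduct.lid k (A ⊗[k] A) (LinearMap.rTensor (A ⊗[k] A) β
        (LinearMap.lTensor A (CoalgebraStruct.comul (R := k) (A := A)) t)) := by
    intro t
    induction t using TensorProduct.induction_on with
    | zero => simp
    | add x y hx hy => simp only [map_add, hx, hy]
    | tmul x y =>
      rw [LinearMap.rTensor_tmul, TensorProduct.lid_tmul, LinearMap.lTensor_tmul,
        LinearMap.rTensor_tmul, TensorProduct.lid_tmul, map_smul]
  have h2 : ∀ t : (A ⊗[k] A) ⊗[k] A, TensorProduct.lid k (A ⊗[k] A)
      (LinearMap.rTensor (A ⊗[k] A) β (TensorProduct.assoc k A A A t)) =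
      LinearMap.rTensor A ((TensorProduct.lid k A).toLinearMap ∘ₗ LinearMap.rTensor A β) t := by
    intro t
    induction t using TensorProduct.induction_on with
    | zero => simp
    | add x y hx hy => simp only [map_add, hx, hy]
    | tmul x z =>
      induction x using TensorProduct.induction_on with
      | zero => simp
      | add x y hx hy => simp only [map_add, TensorProduct.add_tmul, hx, hy]
      | tmul x y =>
        rw [TensorProduct.assoc_tmul, LinearMap.rTensor_tmul, TensorProduct.lid_tmul,
          LinearMap.rTensor_tmul, LinearMap.comp_apply, LinearMap.rTensor_tmul,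
          LinearEquiv.coe_coe, TensorProduct.lid_tmul, TensorProduct.smul_tmul']
  rw [Lop_apply, h1, ← hco, h2, ← LinearMap.comp_apply, ← LinearMap.rTensor_comp]
  rfl

end Op

section Inj

variable {k : Type u} [CommRing k] {A : Type v} [CommRing A] [HopfAlgebra k A]
  {B : Type w} [CommRing B] [HopfAlgebra k B]

/-- `L` commutes with bialgebra maps -/
lemma map_Lop (φ : B →ₐc[k] A) (β : A →ₗ[k] k) (b : B) :
    φ (Lop (β ∘ₗ (φ : B →ₗ[k] A)) b) = Lop β (φ b) := by
  rw [Lop_apply, Lop_apply, ← CoalgHomClass.map_comp_comul_apply]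
  generalize CoalgebraStruct.comul (R := k) b = t
  induction t using TensorProduct.induction_on with
  | zero => simp
  | add x y hx hy => simp only [map_add, hx, hy]
  | tmul x y =>
    rw [LinearMap.rTensor_tmul, TensorProduct.lid_tmul, TensorProduct.map_tmul,
      LinearMap.rTensor_tmul, TensorProduct.lid_tmul, map_smul]
    rfl

/-- an integral restricts along injective bialgebra maps -/
theorem isIntegral_comp (φ : B →ₐc[k] A) (hφ : Function.Injective φ) {α : A →ₗ[k] k}
    (hα : IsIntegral α) : IsIntegral (α ∘ₗ (φ : B →ₗ[k] A)) := by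
  rw [isIntegral_iff]
  intro b
  apply hφ
  rw [map_Lop, (isIntegral_iff α).mp hα, map_smul, map_one]
  rfl

end Inj

section Quot

variable {k : Type u} [Field k] {A : Type v} [CommRing A] [HopfAlgebra k A]
  {B : Type w} [CommRing B] [HopfAlgebra k B]

/-- a quotient group of a linearly reductive group is linearly reductive -/
theorem isLinearlyReductive_of_injective (φ : B →ₐc[k] A) (hφ : Function.Injective φ)
    (hA : HopfRep.IsLinearlyReductive k A) : HopfRep.IsLinearlyReductive k B := by
  obtain ⟨α, hα, h1⟩ := isLinearlyReductive_iff_exists_integral.mp hA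
  refine isLinearlyReductive_iff_exists_integral.mpr
    ⟨α ∘ₗ (φ : B →ₗ[k] A), isIntegral_comp φ hφ hα, ?_⟩
  rw [LinearMap.comp_apply]
  show α (φ 1) = 1
  rw [map_one, h1]

end Quot

end Groth.Agent.H9.LR
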