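import Mathlib
import Groth.Prelude.Def_HopfRep
import Groth.Agent.Lib.Helper9.LR.Basic
import Groth.Agent.Lib.Helper9.NQ.Inverse
import Groth.Agent.Lib.Helper9.FF.Apps

/-!
# Extensions of linearly reductive groups are linearly reductive (helper9)
-/

set_option autoImplicit false
set_option linter.style.haveILetI false

universe u v w w'

open TensorProduct

namespace Groth.Agent.H9.LR

open Groth.Agent.H9.Integral Groth.Agent.H9.Comod Groth.Agent.H9.FF Groth.Agent.H9.NQ
  Groth.Agent.H9.FF.Conv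

section Coinv

variable {k : Type u} [Field k] {A : Type v} [CommRing A] [HopfAlgebra k A]
  {C : Type w} [CommRing C] [HopfAlgebra k C] (p : A →ₐc[k] C)

/-- the antipode exchanges left and right invariants -/
lemma rchar_antipode_of_lchar {a : A} (h : LChar p 1 a) :
    RChar p 1 (HopfAlgebra.antipode k a) := by
  unfold RChar LChar at *
  rw [rho_apply, Groth.Agent.H9.Hopf.comul_antipode]
  rw [lam_apply] at h
  have key : ∀ t : A ⊗[k] A,
      (p : A →ₐ[k] C).toLinearMap.lTensor A
        (TensorProduct.map (HopfAlgebra.antipode k) (HopfAlgebra.antipode k)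
          (TensorProduct.comm k A A t)) =
      TensorProduct.map (HopfAlgebra.antipode k) (HopfAlgebra.antipode k)
        (TensorProduct.comm k C A ((p : A →ₐ[k] C).toLinearMap.rTensor A t)) := by
    intro t
    induction t using TensorProduct.induction_on with
    | zero => simp
    | add x y hx hy => simp only [map_add, hx, hy]
    | tmul x y =>
      rw [TensorProduct.comm_tmul, TensorProduct.map_tmul, LinearMap.lTensor_tmul,
        LinearMap.rTensor_tmul, TensorProduct.comm_tmul, TensorProduct.map_tmul]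
      congr 1
      exact Groth.Agent.H9.FF.Conv.bialgHom_antipode p x
  rw [key, h, TensorProduct.comm_tmul, TensorProduct.map_tmul, HopfAlgebra.antipode_one]

end Coinv

section Ext

variable {k : Type u} [Field k] {AQ : Type w} [CommRing AQ] [HopfAlgebra k AQ]
  {AG : Type v} [CommRing AG] [HopfAlgebra k AG] {AK : Type w'} [CommRing AK] [HopfAlgebra k AK]
  (φ : AQ →ₐc[k] AG) (ψ : AG →ₐc[k] AK)

/-- right-invariant functions come from the quotient -/
theorem coinv_eq_range
    (hker : RingHom.ker (ψ : AG →ₐ[k] AK) =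
      Ideal.map (φ : AQ →ₐ[k] AG) (RingHom.ker (Bialgebra.counitAlgHom k AQ))) :
    coinv ψ = (φ : AQ →ₐ[k] AG).range := by
  apply coinv_eq_of_ker_eq _ (isHopfSub_range φ) ψ
  have h1 : RingHom.ker (ψ : AG →+* AK) = RingHom.ker (ψ : AG →ₐ[k] AK) := by
    ext x
    rw [RingHom.mem_ker, RingHom.mem_ker]
    rfl
  rw [h1, hker, Ideal.map]
  congr 1
  ext a
  constructor
  · rintro ⟨b, hb, rfl⟩
    refine ⟨⟨b, rfl⟩, ?_⟩
    have hb' : CoalgebraStruct.counit (R := k) b = 0 := hb
    show CoalgebraStruct.counit (R := k) (φ b) = 0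
    rw [CoalgHomClass.counit_comp_apply, hb']
  · rintro ⟨⟨b, rfl⟩, hb⟩
    refine ⟨b, ?_, rfl⟩
    have hb' : CoalgebraStruct.counit (R := k) (φ b) = 0 := hb
    rw [CoalgHomClass.counit_comp_apply] at hb'
    exact hb'

variable {φ ψ}

/-- an extension of linearly reductive groups has a normalised integral -/
theorem exists_integral_of_ext (hφ : Function.Injective φ)
    (hker : RingHom.ker (ψ : AG →ₐ[k] AK) =
      Ideal.map (φ : AQ →ₐ[k] AG) (RingHom.ker (Bialgebra.counitAlgHom k AQ)))
    {αK : AK →ₗ[k] k} (hK : IsIntegral αK) (hK1 : αK 1 = 1)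
    {αQ : AQ →ₗ[k] k} (hQ : IsIntegral αQ) (hQ1 : αQ 1 = 1) :
    ∃ αG : AG →ₗ[k] k, IsIntegral αG ∧ αG 1 = 1 := by
  let E' : AG →ₗ[k] AG := Lop (αK ∘ₗ (ψ : AG →ₗ[k] AK))
  have hψE : ∀ a : AG, ψ (E' a) = αK (ψ a) • (1 : AK) := by
    intro a
    rw [map_Lop ψ αK a, (isIntegral_iff αK).mp hK]
  have hE1 : ∀ a : AG, LChar ψ 1 (E' a) := by
    intro a
    unfold LChar
    rw [lam_apply, comul_Lop, ← LinearMap.comp_apply, ← LinearMap.rTensor_comp]
    rw [Lop_repr _ a (Coalgebra.Repr.arbitrary k a), ← (Coalgebra.Repr.arbitrary k a).eq,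
      map_sum, TensorProduct.tmul_sum]
    refine Finset.sum_congr rfl fun i _ => ?_
    rw [LinearMap.rTensor_tmul, LinearMap.comp_apply]
    show (ψ (E' _)) ⊗ₜ[k] _ = _
    rw [hψE, TensorProduct.smul_tmul, LinearMap.comp_apply]
    rfl
  have hcoinv := coinv_eq_range φ ψ hker
  have hE2 : ∀ a : AG, E' a ∈ LinearMap.range (φ : AQ →ₗ[k] AG) := by
    intro a
    have h1 : HopfAlgebra.antipode k (E' a) ∈ coinv ψ :=
      (mem_coinv ψ).mpr (rchar_antipode_of_lchar ψ (hE1 a))
    rw [hcoinv] at h1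
    obtain ⟨b, hb⟩ := h1
    refine ⟨HopfAlgebra.antipode k b, ?_⟩
    show φ (HopfAlgebra.antipode k b) = E' a
    rw [Groth.Agent.H9.FF.Conv.bialgHom_antipode φ b]
    have hb' : φ b = HopfAlgebra.antipode k (E' a) := hb
    rw [hb']
    exact Groth.Agent.H9.Hopf.antipode_antipode (R := k) _
  let e := LinearEquiv.ofInjective (φ : AQ →ₗ[k] AG) hφ
  let Eb : AG →ₗ[k] AQ :=
    e.symm.toLinearMap ∘ₗ LinearMap.codRestrict (LinearMap.range (φ : AQ →ₗ[k] AG)) E' hE2
  have hEb : ∀ a : AG, φ (Eb a) = E' a := by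
    intro a
    have := e.apply_symm_apply (LinearMap.codRestrict (LinearMap.range (φ : AQ →ₗ[k] AG)) E' hE2 a)
    exact congrArg Subtype.val this
  have hcomp : (φ : AQ →ₗ[k] AG) ∘ₗ Eb = E' := LinearMap.ext hEb
  have hinjT : Function.Injective (LinearMap.rTensor AG (φ : AQ →ₗ[k] AG)) :=
    Module.Flat.rTensor_preserves_injective_linearMap _ hφ
  refine ⟨αQ ∘ₗ Eb, ?_, ?_⟩
  · rw [isIntegral_iff]
    intro a
    have h1 : LinearMap.rTensor AG Eb (CoalgebraStruct.comul (R := k) a) =
        LinearMap.lTensor AQ (φ : AQ →ₗ[k] AG) (CoalgebraStruct.comul (R := k) (Eb a)) := by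
      apply hinjT
      rw [← LinearMap.comp_apply, ← LinearMap.rTensor_comp, hcomp, ← comul_Lop]
      show CoalgebraStruct.comul (R := k) (E' a) = _
      rw [← hEb, ← CoalgHomClass.map_comp_comul_apply]
      generalize CoalgebraStruct.comul (R := k) (Eb a) = t
      induction t using TensorProduct.induction_on with
      | zero => simp
      | add x y hx hy => simp only [map_add, hx, hy]
      | tmul x y => rfl
    rw [Lop_apply, LinearMap.rTensor_comp, LinearMap.comp_apply, h1]
    have h2 : ∀ t : AQ ⊗[k] AQ, TensorProduct.lid k AG (LinearMap.rTensor AG αQ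
        (LinearMap.lTensor AQ (φ : AQ →ₗ[k] AG) t)) =
        φ (TensorProduct.lid k AQ (LinearMap.rTensor AQ αQ t)) := by
      intro t
      induction t using TensorProduct.induction_on with
      | zero => simp
      | add x y hx hy => simp only [map_add, hx, hy]
      | tmul x y =>
        rw [LinearMap.lTensor_tmul, LinearMap.rTensor_tmul, LinearMap.rTensor_tmul,
          TensorProduct.lid_tmul, TensorProduct.lid_tmul, map_smul]
        rfl
    rw [h2, ← Lop_apply, (isIntegral_iff αQ).mp hQ, map_smul, map_one]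
    rfl
  · rw [LinearMap.comp_apply]
    have h1 : Eb 1 = 1 := by
      apply hφ
      rw [hEb, map_one φ]
      show Lop (αK ∘ₗ (ψ : AG →ₗ[k] AK)) 1 = 1
      rw [Lop_apply, Bialgebra.comul_one, Algebra.TensorProduct.one_def, LinearMap.rTensor_tmul,
        TensorProduct.lid_tmul, LinearMap.comp_apply]
      show αK (ψ 1) • (1 : AG) = 1
      rw [map_one, hK1, one_smul]
    rw [h1, hQ1]

end Ext

end Groth.Agent.H9.LR
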