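import Mathlib
import Groth.Prelude.Def_HopfRep
import Groth.Agent.Lib.Helper9.LR.Ext
import Groth.Agent.Lib.Helper9.ComodMatLine
import Groth.Agent.Lib.Helper9.ComodHomLR

/-!
# A normal subgroup (with affine quotient) of a linearly reductive group is linearly reductive
(helper9)
-/

set_option autoImplicit false
set_option linter.style.haveILetI false
set_option linter.unusedSectionVars false

universe u v w w'

open TensorProduct

namespace Groth.Agent.H9.LR

open Groth.Agent.H9.Integral Groth.Agent.H9.Comod Groth.Agent.H9.FF Groth.Agent.H9.NQ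
  Groth.Agent.H9.FF.Conv Groth.Agent.H9.MatLine

section Descent

/-- faithfully flat descent for the solvability of `D y = 0 ∧ Pr y = p` -/
theorem exists_of_lTensor {B T M M' P : Type*} [CommRing B] [CommRing T] [Algebra B T]
    [Module.FaithfullyFlat B T] [AddCommGroup M] [Module B M] [AddCommGroup M'] [Module B M']
    [AddCommGroup P] [Module B P] (D : M →ₗ[B] M') (Pr : M →ₗ[B] P) (p : P)
    (z : T ⊗[B] M) (hz1 : D.lTensor T z = 0) (hz2 : Pr.lTensor T z = (1 : T) ⊗ₜ[B] p) :
    ∃ y : M, D y = 0 ∧ Pr y = p := by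
  have hex : Function.Exact (LinearMap.ker D).subtype D := LinearMap.exact_subtype_ker_map D
  have hex' := Module.Flat.lTensor_exact T hex
  obtain ⟨z', hz'⟩ := (hex' z).mp hz1
  let R : Submodule B P := LinearMap.range (Pr ∘ₗ (LinearMap.ker D).subtype)
  have h0 : ((R.mkQ ∘ₗ Pr) ∘ₗ (LinearMap.ker D).subtype) = 0 := by
    apply LinearMap.ext
    intro n
    rw [LinearMap.comp_apply, LinearMap.comp_apply, Submodule.mkQ_apply, LinearMap.zero_apply,
      Submodule.Quotient.mk_eq_zero]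
    exact ⟨n, rfl⟩
  have h1 : (R.mkQ).lTensor T ((1 : T) ⊗ₜ[B] p) = 0 := by
    rw [← hz2, ← hz', ← LinearMap.comp_apply, ← LinearMap.comp_apply, ← LinearMap.lTensor_comp,
      ← LinearMap.lTensor_comp, h0, LinearMap.lTensor_zero, LinearMap.zero_apply]
  rw [LinearMap.lTensor_tmul, Module.FaithfullyFlat.one_tmul_eq_zero_iff] at h1
  obtain ⟨n, hn⟩ := (Submodule.Quotient.mk_eq_zero R).mp h1
  exact ⟨n.1, n.2, hn⟩

end Descent

section Torsor

variable {k : Type u} [Field k] {A : Type v} [CommRing A] [HopfAlgebra k A]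
  {B : Type w} [CommRing B] [HopfAlgebra k B] [Algebra B A] [IsScalarTower k B A]
  {C : Type w'} [CommRing C] [HopfAlgebra k C]
  (f : B →ₐc[k] A) (hf : ∀ b, algebraMap B A b = f b) (ψ : A →ₐc[k] C)

/-- `a ↦ a₂ ⊗_B S(a₁)` -/
noncomputable def gam' : A →ₐ[k] A ⊗[B] A := cmul (cinv (q₂ k A B)) (q₁ k A B)

include hf in
lemma gam'_comp_f : (gam' (k := k) (A := A) (B := B)).comp (f : B →ₐ[k] A) = cone := by
  rw [gam', cmul_comp_bialgHom, cinv_comp_bialgHom, ← q₁_comp_f f hf, cinv_cmul]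

include hf in
lemma gam'_mem (a : A) (ha : a ∈ augIdeal k A B) : gam' (k := k) (B := B) a = 0 := by
  have hle : augIdeal k A B ≤ RingHom.ker (gam' (k := k) (A := A) (B := B)) := by
    rw [augIdeal, Ideal.map_le_iff_le_comap]
    intro b hb
    rw [Ideal.mem_comap, RingHom.mem_ker, hf]
    have := congrArg (fun H : B →ₐ[k] A ⊗[B] A => H b) (gam'_comp_f f hf)
    simp only [AlgHom.coe_comp, Function.comp_apply] at this
    replace this : gam' (k := k) (A := A) (B := B) (f b) = cone b := this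
    rw [this, cone_apply]
    have hb' : Coalgebra.counit (R := k) b = 0 := hb
    rw [hb', map_zero]
  exact hle ha

variable (hψf : (ψ : A →ₐ[k] C).comp (f : B →ₐ[k] A) = cone)

include hψf in
lemma rho_comp_f : (rho ψ).comp (f : B →ₐ[k] A) =
    (Algebra.TensorProduct.includeLeft : A →ₐ[k] A ⊗[k] C).comp (f : B →ₐ[k] A) := by
  rw [rho, cmul_comp_bialgHom, AlgHom.comp_assoc, hψf, comp_cone, cmul_cone]

/-- the coaction `a ↦ a₁ ⊗ ψ(a₂)` as a `B`-algebra map -/
noncomputable def rhoB : A →ₐ[B] A ⊗[k] C :=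
  { (rho ψ).toRingHom with
    commutes' := fun b => by
      have := congrArg (fun H : B →ₐ[k] A ⊗[k] C => H b) (rho_comp_f f ψ hψf)
      simp only [AlgHom.coe_comp, Function.comp_apply] at this
      show rho ψ (algebraMap B A b) = _
      rw [hf]
      refine this.trans ?_
      rw [Algebra.TensorProduct.algebraMap_apply, hf]
      rfl }

lemma rhoB_apply (a : A) : rhoB f hf ψ hψf a = rho ψ a := rfl

variable (k A B C) in
/-- `t ↦ t ⊗_B 1` -/
noncomputable def X₁ : A →ₐ[k] A ⊗[B] (A ⊗[k] C) :=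
  (Algebra.TensorProduct.includeLeft (S := B) : A →ₐ[B] A ⊗[B] (A ⊗[k] C)).restrictScalars k

variable (k A B C) in
/-- `x ↦ 1 ⊗_B x` -/
noncomputable def jR : A ⊗[k] C →ₐ[k] A ⊗[B] (A ⊗[k] C) :=
  (Algebra.TensorProduct.includeRight : A ⊗[k] C →ₐ[B] A ⊗[B] (A ⊗[k] C)).restrictScalars k

variable (k A B C) in
/-- `t ⊗ a ↦ t ⊗ (a ⊗ 1)` -/
noncomputable def P1 : A ⊗[B] A →ₐ[k] A ⊗[B] (A ⊗[k] C) :=
  (Algebra.TensorProduct.map (AlgHom.id B A)
    (Algebra.TensorProduct.includeLeft (S := B) : A →ₐ[B] A ⊗[k] C)).restrictScalars k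

/-- `t ⊗ a ↦ t ⊗ (a₁ ⊗ ψ(a₂))` -/
noncomputable def Mm : A ⊗[B] A →ₐ[k] A ⊗[B] (A ⊗[k] C) :=
  (Algebra.TensorProduct.map (AlgHom.id B A) (rhoB f hf ψ hψf)).restrictScalars k

lemma P1_tmul (t a : A) : P1 k A B C (t ⊗ₜ[B] a) = t ⊗ₜ[B] (a ⊗ₜ[k] (1 : C)) := rfl

lemma Mm_tmul (t a : A) : Mm f hf ψ hψf (t ⊗ₜ[B] a) = t ⊗ₜ[B] (rho ψ a) := rfl

lemma X₁_apply (t : A) : X₁ k A B C t = t ⊗ₜ[B] (1 : A ⊗[k] C) := rfl

lemma jR_apply (x : A ⊗[k] C) : jR k A B C x = (1 : A) ⊗ₜ[B] x := rfl

lemma P1_comp_q₁ : (P1 k A B C).comp (q₁ k A B) = X₁ k A B C := by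
  ext a
  rfl

lemma P1_comp_q₂ : (P1 k A B C).comp (q₂ k A B) =
    (jR k A B C).comp (Algebra.TensorProduct.includeLeft : A →ₐ[k] A ⊗[k] C) := by
  ext a
  rfl

lemma Mm_comp_q₁ : (Mm f hf ψ hψf).comp (q₁ k A B) = X₁ k A B C := by
  ext a
  show (a : A) ⊗ₜ[B] (rho ψ 1) = _
  rw [map_one]
  rfl

lemma Mm_comp_q₂ : (Mm f hf ψ hψf).comp (q₂ k A B) = (jR k A B C).comp (rho ψ) := by
  ext a
  rfl

/-- **the torsor identity** -/
theorem torsor_identity :
    cmul ((jR k A B C).comp ((Algebra.TensorProduct.includeRight : C →ₐ[k] A ⊗[k] C).comp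
      (ψ : A →ₐ[k] C))) ((Mm f hf ψ hψf).comp (gam' (k := k) (A := A) (B := B))) =
      (P1 k A B C).comp (gam' (k := k) (A := A) (B := B)) := by
  rw [gam', comp_cmul, comp_cinv, comp_cmul, comp_cinv, Mm_comp_q₁, Mm_comp_q₂, P1_comp_q₁,
    P1_comp_q₂, rho, comp_cmul, cinv_cmul_rev, cmul_assoc, ← AlgHom.comp_assoc,
    cmul_cinv_cancel_left]

end Torsor

section MatDescent

variable {k : Type u} [Field k] {A : Type v} [CommRing A] [HopfAlgebra k A]
  {B : Type w} [CommRing B] [HopfAlgebra k B] [Algebra B A] [IsScalarTower k B A]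
  {C : Type w'} [CommRing C] [HopfAlgebra k C]
  (f : B →ₐc[k] A) (hf : ∀ b, algebraMap B A b = f b) (ψ : A →ₐc[k] C)
  (hψf : (ψ : A →ₐ[k] C).comp (f : B →ₐ[k] A) = cone)
  {ι : Type*} [Fintype ι] [DecidableEq ι] (M : Matrix ι ι C)

lemma cmul_mat {R : Type*} [CommRing R] [Algebra k R] (hM : IsMult (k := k) M)
    (F G : C →ₐ[k] R) (l i : ι) : cmul F G (M l i) = ∑ j, F (M l j) * G (M j i) := by
  rw [cmul_apply, hM.comul, map_sum]
  refine Finset.sum_congr rfl fun j _ => ?_
  rw [Algebra.TensorProduct.lift_tmul]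

/-- the equivariance defect on `ι → A` -/
noncomputable def Dmat : (ι → A) →ₗ[B] (ι → A ⊗[k] C) :=
  LinearMap.pi fun l =>
    (∑ j, (LinearMap.mulLeft B ((1 : A) ⊗ₜ[k] M l j)) ∘ₗ (rhoB f hf ψ hψf).toLinearMap ∘ₗ
      (LinearMap.proj j : (ι → A) →ₗ[B] A)) -
    (Algebra.TensorProduct.includeLeft (S := B) : A →ₐ[B] A ⊗[k] C).toLinearMap ∘ₗ
      (LinearMap.proj l : (ι → A) →ₗ[B] A)

lemma Dmat_apply (a : ι → A) (l : ι) :
    Dmat f hf ψ hψf M a l = ∑ j, ((1 : A) ⊗ₜ[k] M l j) * rho ψ (a j) - a l ⊗ₜ[k] (1 : C) := by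
  simp only [Dmat, LinearMap.pi_apply, LinearMap.sub_apply, LinearMap.sum_apply,
    LinearMap.comp_apply, LinearMap.proj_apply, LinearMap.mulLeft_apply]
  rfl

/-- the projection `Σ p_j a_j` -/
noncomputable def Pmat (p : ι → k) : (ι → A) →ₗ[B] A :=
  ∑ j, (LinearMap.mulLeft B (algebraMap k A (p j))) ∘ₗ (LinearMap.proj j : (ι → A) →ₗ[B] A)

lemma Pmat_apply (p : ι → k) (a : ι → A) :
    Pmat (B := B) p a = ∑ j, algebraMap k A (p j) * a j := by
  simp only [Pmat, LinearMap.sum_apply, LinearMap.comp_apply, LinearMap.proj_apply,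
    LinearMap.mulLeft_apply]

lemma piRight_lTensor_Dmat (w : A ⊗[B] (ι → A)) (l : ι) :
    TensorProduct.piRight B B A (fun _ : ι => A ⊗[k] C)
      (LinearMap.lTensor A (Dmat f hf ψ hψf M) w) l =
    ∑ j, jR k A B C ((1 : A) ⊗ₜ[k] M l j) *
        Mm f hf ψ hψf (TensorProduct.piRight B B A (fun _ : ι => A) w j) -
      P1 k A B C (TensorProduct.piRight B B A (fun _ : ι => A) w l) := by
  induction w using TensorProduct.induction_on with
  | zero => simp
  | add x y hx hy =>
    simp only [map_add, Pi.add_apply, hx, hy, mul_add, Finset.sum_add_distrib]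
    abel
  | tmul t a =>
    rw [LinearMap.lTensor_tmul, TensorProduct.piRight_apply, TensorProduct.piRightHom_tmul,
      TensorProduct.piRight_apply, TensorProduct.piRightHom_tmul]
    beta_reduce
    rw [Dmat_apply, TensorProduct.tmul_sub, TensorProduct.tmul_sum]
    congr 1
    refine Finset.sum_congr rfl fun j _ => ?_
    rw [Mm_tmul, jR_apply, Algebra.TensorProduct.tmul_mul_tmul, one_mul]

lemma lTensor_Pmat (p : ι → k) (w : A ⊗[B] (ι → A)) :
    LinearMap.lTensor A (Pmat (B := B) p) w =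
      ∑ j, p j • TensorProduct.piRight B B A (fun _ : ι => A) w j := by
  induction w using TensorProduct.induction_on with
  | zero => simp
  | add x y hx hy =>
    simp only [map_add, Pi.add_apply, hx, hy, smul_add, Finset.sum_add_distrib]
  | tmul t a =>
    rw [LinearMap.lTensor_tmul, Pmat_apply, TensorProduct.tmul_sum, TensorProduct.piRight_apply,
      TensorProduct.piRightHom_tmul]
    beta_reduce
    refine Finset.sum_congr rfl fun j _ => ?_
    rw [← Algebra.smul_def, TensorProduct.tmul_smul]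

include f hf hψf in
/-- **exactness of induction** (matrix form): an equivariant vector-valued function with
prescribed image under an equivariant functional -/
theorem exists_equivariant [Module.FaithfullyFlat B A] (hM : IsMult (k := k) M)
    (γ' : C →ₐ[k] A ⊗[B] A) (hγ : γ'.comp (ψ : A →ₐ[k] C) = gam')
    (hψ : Function.Surjective ψ)
    (p : ι → k) (hp : ∀ j, ∑ l, p l • M l j = p j • (1 : C))
    (v0 : ι → k) (hv0 : ∑ j, p j * v0 j = 1) :
    ∃ a : ι → A, (∀ l, ∑ j, ((1 : A) ⊗ₜ[k] M l j) * rho ψ (a j) = a l ⊗ₜ[k] (1 : C)) ∧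
      ∑ j, algebraMap k A (p j) * a j = 1 := by
  let r : ι → A ⊗[B] A := fun l => ∑ j, v0 j • γ' (M l j)
  let z : A ⊗[B] (ι → A) := (TensorProduct.piRight B B A (fun _ : ι => A)).symm r
  have hzr : TensorProduct.piRight B B A (fun _ : ι => A) z = r :=
    LinearEquiv.apply_symm_apply _ _
  have hC : cmul ((jR k A B C).comp (Algebra.TensorProduct.includeRight : C →ₐ[k] A ⊗[k] C))
      ((Mm f hf ψ hψf).comp γ') = (P1 k A B C).comp γ' := by
    have hψ' : Function.Surjective (ψ : A →ₐ[k] C) := hψ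
    apply (AlgHom.cancel_right hψ').mp
    rw [cmul_comp_bialgHom, AlgHom.comp_assoc, AlgHom.comp_assoc, AlgHom.comp_assoc, hγ]
    exact torsor_identity f hf ψ hψf
  have hz1 : LinearMap.lTensor A (Dmat f hf ψ hψf M) z = 0 := by
    apply (TensorProduct.piRight B B A (fun _ : ι => A ⊗[k] C)).injective
    funext l
    rw [piRight_lTensor_Dmat, hzr, map_zero, Pi.zero_apply]
    simp only [r, map_sum, map_smul, Finset.mul_sum, mul_smul_comm]
    rw [Finset.sum_comm, ← Finset.sum_sub_distrib]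
    apply Finset.sum_eq_zero
    intro i _
    rw [← Finset.smul_sum, ← smul_sub]
    have := congrArg (fun H : C →ₐ[k] A ⊗[B] (A ⊗[k] C) => H (M l i)) hC
    beta_reduce at this
    rw [cmul_mat M hM] at this
    simp only [AlgHom.comp_apply, Algebra.TensorProduct.includeRight_apply] at this
    rw [this, sub_self, smul_zero]
  have hz2 : LinearMap.lTensor A (Pmat (B := B) p) z = (1 : A) ⊗ₜ[B] (1 : A) := by
    rw [lTensor_Pmat, hzr]
    simp only [r, Finset.smul_sum]
    rw [Finset.sum_comm]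
    have h1 : ∀ j, ∑ l, p l • v0 j • γ' (M l j) = (p j * v0 j) • (1 : A ⊗[B] A) := by
      intro j
      simp only [smul_comm (p _) (v0 j), ← Finset.smul_sum, ← map_smul, ← map_sum]
      rw [hp, smul_smul, map_smul γ', map_one γ', mul_comm]
    simp only [h1]
    rw [← Finset.sum_smul, hv0, one_smul]
    rfl
  obtain ⟨a, ha1, ha2⟩ := exists_of_lTensor (T := A) (Dmat f hf ψ hψf M) (Pmat (B := B) p)
    (1 : A) z hz1 hz2
  refine ⟨a, fun l => ?_, ?_⟩
  · have := congrFun ha1 l
    rw [Dmat_apply, Pi.zero_apply, sub_eq_zero] at this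
    exact this
  · rw [← Pmat_apply (B := B)]
    exact ha2

/-- slicing with a functional in the left factor -/
noncomputable def slc (α : A →ₗ[k] k) : A ⊗[k] C →ₗ[k] C :=
  (TensorProduct.lid k C).toLinearMap ∘ₗ LinearMap.rTensor C α

lemma slc_tmul (α : A →ₗ[k] k) (a : A) (c : C) : slc α (a ⊗ₜ[k] c) = α a • c := by
  rw [slc, LinearMap.comp_apply, LinearMap.rTensor_tmul, LinearEquiv.coe_coe,
    TensorProduct.lid_tmul]

lemma slc_mul (α : A →ₗ[k] k) (c : C) (y : A ⊗[k] C) :
    slc α (((1 : A) ⊗ₜ[k] c) * y) = c * slc α y := by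
  induction y using TensorProduct.induction_on with
  | zero => simp
  | add x y hx hy => rw [mul_add, map_add, hx, hy, map_add, mul_add]
  | tmul a c' =>
    rw [Algebra.TensorProduct.tmul_mul_tmul, one_mul, slc_tmul, slc_tmul, mul_smul_comm]

lemma slc_rho (α : A →ₗ[k] k) (a : A) : slc α (rho ψ a) = ψ (Lop α a) := by
  rw [rho_apply, Lop_apply]
  generalize CoalgebraStruct.comul (R := k) a = t
  induction t using TensorProduct.induction_on with
  | zero => simp
  | add x y hx hy => simp only [map_add, hx, hy]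
  | tmul x y =>
    rw [LinearMap.lTensor_tmul, slc_tmul, LinearMap.rTensor_tmul, TensorProduct.lid_tmul,
      map_smul]
    rfl

include f hf hψf in
/-- a fixed vector from a normalised integral of the big group -/
theorem exists_fixed_of_integral [Module.FaithfullyFlat B A] (hM : IsMult (k := k) M)
    (γ' : C →ₐ[k] A ⊗[B] A) (hγ : γ'.comp (ψ : A →ₐ[k] C) = gam')
    (hψ : Function.Surjective ψ)
    (p : ι → k) (hp : ∀ j, ∑ l, p l • M l j = p j • (1 : C))
    (v0 : ι → k) (hv0 : ∑ j, p j * v0 j = 1)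
    {α : A →ₗ[k] k} (hα : IsIntegral α) (h1 : α 1 = 1) :
    ∃ x : ι → k, (∀ l, ∑ j, x j • M l j = x l • (1 : C)) ∧ ∑ j, p j * x j = 1 := by
  obtain ⟨a, ha1, ha2⟩ := exists_equivariant f hf ψ hψf M hM γ' hγ hψ p hp v0 hv0
  refine ⟨fun j => α (a j), fun l => ?_, ?_⟩
  · have := congrArg (slc α) (ha1 l)
    rw [map_sum, slc_tmul] at this
    rw [← this]
    refine Finset.sum_congr rfl fun j _ => ?_
    rw [slc_mul, slc_rho, (isIntegral_iff α).mp hα, map_smul, map_one, mul_smul_comm, mul_one]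
  · have := congrArg α ha2
    rw [map_sum, h1] at this
    rw [← this]
    refine Finset.sum_congr rfl fun j _ => ?_
    rw [← Algebra.smul_def, map_smul, smul_eq_mul]

end MatDescent

section Final

variable {k : Type u} [Field k] {AQ : Type w} [CommRing AQ] [HopfAlgebra k AQ]
  {AG : Type v} [CommRing AG] [HopfAlgebra k AG] {AK : Type w'} [CommRing AK] [HopfAlgebra k AK]
  {φ : AQ →ₐc[k] AG} {ψ : AG →ₐc[k] AK}

open Groth.Agent.H9.ComodHomLR in
/-- the invariant-section criterion for a normal subgroup with affine quotient, from a normalised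
integral of the big group -/
theorem crit_of_normal (hφ : Function.Injective φ) (hψ : Function.Surjective ψ)
    (hker : RingHom.ker (ψ : AG →ₐ[k] AK) =
      Ideal.map (φ : AQ →ₐ[k] AG) (RingHom.ker (Bialgebra.counitAlgHom k AQ)))
    {α : AG →ₗ[k] k} (hα : IsIntegral α) (h1 : α 1 = 1) : Crit k AK := by
  letI : Algebra AQ AG := (φ : AQ →ₐ[k] AG).toRingHom.toAlgebra
  haveI : IsScalarTower k AQ AG :=
    IsScalarTower.of_algebraMap_eq (fun r => ((φ : AQ →ₐ[k] AG).commutes r).symm)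
  haveI : Module.FaithfullyFlat AQ AG := faithfullyFlat_of_injective φ hφ
  have hf : ∀ b, algebraMap AQ AG b = φ b := fun _ => rfl
  have haug : RingHom.ker (ψ : AG →ₐ[k] AK) = augIdeal k AG AQ := hker
  have hψf : (ψ : AG →ₐ[k] AK).comp (φ : AQ →ₐ[k] AG) = cone := by
    ext b
    rw [cone_apply]
    have h1 : (b - algebraMap k AQ (Coalgebra.counit b)) ∈
        RingHom.ker (Bialgebra.counitAlgHom k AQ) := by
      rw [RingHom.mem_ker, map_sub]
      simp
    have h2 : algebraMap AQ AG (b - algebraMap k AQ (Coalgebra.counit b)) ∈ augIdeal k AG AQ :=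
      Ideal.mem_map_of_mem _ h1
    rw [← haug, RingHom.mem_ker, map_sub, map_sub, sub_eq_zero, hf, hf] at h2
    rw [AlgHom.comp_apply]
    refine h2.trans ?_
    show ψ (φ (algebraMap k AQ _)) = _
    rw [AlgHomClass.commutes φ, AlgHomClass.commutes ψ]
  have hgam : ∀ a ∈ RingHom.ker (ψ : AG →ₐ[k] AK), gam' (k := k) (B := AQ) a = 0 :=
    fun a ha => gam'_mem φ hf a (haug ▸ ha)
  have hψ' : Function.Surjective (ψ : AG →ₐ[k] AK) := hψ
  let e := Ideal.quotientKerAlgEquivOfSurjective hψ'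
  let γ' : AK →ₐ[k] AG ⊗[AQ] AG :=
    (Ideal.Quotient.liftₐ _ (gam' (k := k) (A := AG) (B := AQ)) hgam).comp
      (e.symm : AK →ₐ[k] _)
  have hγ : γ'.comp (ψ : AG →ₐ[k] AK) = gam' := by
    ext a
    show Ideal.Quotient.liftₐ _ (gam' (k := k) (A := AG) (B := AQ)) hgam (e.symm (ψ a)) = gam' a
    have : e.symm (ψ a) = Ideal.Quotient.mk _ a := by
      rw [AlgEquiv.symm_apply_eq]
      rfl
    rw [this]
    rfl
  intro V _ _ cV hfin π hπ hπc
  let b := Module.finBasis k V
  let M := mat cV b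
  have hM : IsMult (k := k) M := isMult_mat cV b
  let p : Fin (Module.finrank k V) → k := fun j => π (b j)
  have hp : ∀ j, ∑ l, p l • M l j = p j • (1 : AK) := by
    intro j
    have h := LinearMap.congr_fun hπc (b j)
    rw [LinearMap.comp_apply, LinearMap.comp_apply, coact_basis cV b j, map_sum] at h
    simp only [LinearMap.rTensor_tmul, LinearMap.flip_apply, TensorProduct.mk_apply] at h
    have h' := congrArg (TensorProduct.lid k AK) h
    rw [map_sum] at h'
    simp only [TensorProduct.lid_tmul] at h'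
    exact h'
  obtain ⟨v, hv⟩ := hπ 1
  have hv0 : ∑ j, p j * b.repr v j = 1 := by
    rw [← hv]
    conv_rhs => rw [← b.sum_repr v, map_sum]
    refine Finset.sum_congr rfl fun j _ => ?_
    rw [map_smul, smul_eq_mul, mul_comm]
  obtain ⟨x, hx1, hx2⟩ := exists_fixed_of_integral φ hf ψ hψf M hM γ' hγ hψ p hp
    (fun j => b.repr v j) hv0 hα h1
  refine ⟨∑ j, x j • b j, ?_, ?_⟩
  · show cV.coact (∑ j, x j • b j) = (∑ j, x j • b j) ⊗ₜ[k] (1 : AK)
    rw [map_sum, TensorProduct.sum_tmul]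
    simp only [map_smul, coact_basis cV b, Finset.smul_sum]
    rw [Finset.sum_comm]
    refine Finset.sum_congr rfl fun l _ => ?_
    have hsm : ∀ j, x j • (b l ⊗ₜ[k] mat cV b l j) = b l ⊗ₜ[k] (x j • M l j) :=
      fun j => by rw [TensorProduct.tmul_smul]
    simp only [hsm]
    rw [← TensorProduct.tmul_sum, hx1, TensorProduct.smul_tmul]
  · rw [map_sum]
    simp only [map_smul, smul_eq_mul]
    have : ∑ j, x j * π (b j) = 1 := by
      rw [← hx2]
      refine Finset.sum_congr rfl fun j _ => ?_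
      rw [mul_comm]
    rw [this]
    exact one_ne_zero

/-- **a normal subgroup with affine quotient of a linearly reductive group is linearly reductive** -/
theorem isLinearlyReductive_of_normal (hφ : Function.Injective φ) (hψ : Function.Surjective ψ)
    (hker : RingHom.ker (ψ : AG →ₐ[k] AK) =
      Ideal.map (φ : AQ →ₐ[k] AG) (RingHom.ker (Bialgebra.counitAlgHom k AQ)))
    (hG : HopfRep.IsLinearlyReductive k AG) : HopfRep.IsLinearlyReductive k AK := by
  obtain ⟨α, hα, h1⟩ := isLinearlyReductive_iff_exists_integral.mp hG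
  exact Groth.Agent.H9.ComodHomLR.isLinearlyReductive_of_crit (crit_of_normal hφ hψ hker hα h1)

/-- **extensions**: `G` is linearly reductive iff `K` and `Q = G/K` are -/
theorem isLinearlyReductive_iff_of_ext (hφ : Function.Injective φ) (hψ : Function.Surjective ψ)
    (hker : RingHom.ker (ψ : AG →ₐ[k] AK) =
      Ideal.map (φ : AQ →ₐ[k] AG) (RingHom.ker (Bialgebra.counitAlgHom k AQ))) :
    HopfRep.IsLinearlyReductive k AG ↔
      HopfRep.IsLinearlyReductive k AK ∧ HopfRep.IsLinearlyReductive k AQ := by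
  constructor
  · intro hG
    exact ⟨isLinearlyReductive_of_normal hφ hψ hker hG, isLinearlyReductive_of_injective φ hφ hG⟩
  · rintro ⟨hK, hQ⟩
    obtain ⟨αK, hαK, hK1⟩ := isLinearlyReductive_iff_exists_integral.mp hK
    obtain ⟨αQ, hαQ, hQ1⟩ := isLinearlyReductive_iff_exists_integral.mp hQ
    exact isLinearlyReductive_iff_exists_integral.mpr
      (exists_integral_of_ext hφ hker hαK hK1 hαQ hQ1)

end Final

end Groth.Agent.H9.LR
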